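import Mathlib
import Cfsg.Agent.KSG.M2
import Cfsg.Agent.Class.Sp.Basic

/-!
Products of two conjugates of a Levi element in `Sp₄(q)` through the Gauss decomposition.
-/

set_option autoImplicit false

namespace Cfsg.Agent.Comm.Sp4

open Matrix Cfsg.Agent.KSG.M2 Cfsg.Agent.Class.Sp

variable {F : Type*} [Field F]

section Blocks

variable {l : Type*} [Fintype l] [DecidableEq l]

/-- Levi element `diag(a, a⁻ᵀ)`. -/
noncomputable def lev (a : Matrix l l F) (ha : a.det ≠ 0) : Matrix.symplecticGroup l F :=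
  ⟨fromBlocks a 0 0 (a⁻¹)ᵀ, by
    rw [SymplecticGroup.fromBlocks_mem_iff]
    refine ⟨by simp, by simp, ?_⟩
    rw [← transpose_mul, Matrix.nonsing_inv_mul _ (isUnit_iff_ne_zero.2 ha)]
    simp⟩

/-- Lower unipotent element. -/
def lo (S : Matrix l l F) (hS : Sᵀ = S) : Matrix.symplecticGroup l F :=
  ⟨fromBlocks 1 0 S 1, by
    rw [SymplecticGroup.fromBlocks_mem_iff]
    simp [hS]⟩

/-- Upper unipotent element. -/
def up (S : Matrix l l F) (hS : Sᵀ = S) : Matrix.symplecticGroup l F :=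
  ⟨fromBlocks 1 S 0 1, by
    rw [SymplecticGroup.fromBlocks_mem_iff]
    simp [hS]⟩

theorem coe_lev (a : Matrix l l F) (ha : a.det ≠ 0) :
    (lev a ha).1 = fromBlocks a 0 0 (a⁻¹)ᵀ := rfl

theorem coe_lo (S : Matrix l l F) (hS : Sᵀ = S) :
    (lo S hS).1 = fromBlocks 1 0 S 1 := rfl

theorem coe_up (S : Matrix l l F) (hS : Sᵀ = S) :
    (up S hS).1 = fromBlocks 1 S 0 1 := rfl

theorem lev_mul (a b : Matrix l l F) (ha : a.det ≠ 0) (hb : b.det ≠ 0) :
    lev a ha * lev b hb = lev (a * b) (by rw [det_mul]; exact mul_ne_zero ha hb) := by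
  apply Subtype.ext
  simp only [Submonoid.coe_mul, coe_lev, fromBlocks_multiply, Matrix.mul_inv_rev, transpose_mul]
  simp

theorem lev_congr {a b : Matrix l l F} (ha : a.det ≠ 0) (hb : b.det ≠ 0) (h : a = b) :
    lev a ha = lev b hb := by subst h; rfl

theorem lev_one : lev (1 : Matrix l l F) (by simp) = 1 := by
  apply Subtype.ext
  simp [coe_lev]

theorem lev_pow (a : Matrix l l F) (ha : a.det ≠ 0) (n : ℕ) :
    lev a ha ^ n = lev (a ^ n) (by rw [det_pow]; exact pow_ne_zero _ ha) := by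
  induction n with
  | zero => simp only [pow_zero]; exact lev_one.symm
  | succ n ih => rw [pow_succ, ih, lev_mul]; exact lev_congr _ _ (pow_succ a n).symm

theorem J_mul_up (T : Matrix l l F) (hT : Tᵀ = T) :
    SymplecticGroup.symJ l F * up T hT = lo (-T) (by simp [hT]) * SymplecticGroup.symJ l F := by
  apply Subtype.ext
  simp [coe_up, coe_lo, Matrix.J, fromBlocks_multiply]

theorem J_mul_lev (a : Matrix l l F) (ha : a.det ≠ 0) :
    SymplecticGroup.symJ l F * lev a⁻¹ (by simpa using ha) =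
      lev aᵀ (by simpa using ha) * SymplecticGroup.symJ l F := by
  apply Subtype.ext
  have hu : IsUnit a.det := isUnit_iff_ne_zero.2 ha
  simp [coe_lev, Matrix.J, fromBlocks_multiply, Matrix.nonsing_inv_nonsing_inv _ hu,
    Matrix.transpose_nonsing_inv]

theorem gauss {g : Matrix.symplecticGroup l F} {A B C D : Matrix l l F}
    (hg : g.1 = fromBlocks A B C D) (hA : A.det ≠ 0) :
    ∃ (S T : Matrix l l F) (hS : Sᵀ = S) (hT : Tᵀ = T), g = lo S hS * lev A hA * up T hT := by
  have hm := g.2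
  rw [hg] at hm
  obtain ⟨h1, h2, h3⟩ := SymplecticGroup.fromBlocks_mem_iff.1 hm
  have hm' := SymplecticGroup.transpose_mem hm
  rw [fromBlocks_transpose] at hm'
  obtain ⟨k1, k2, k3⟩ := SymplecticGroup.fromBlocks_mem_iff.1 hm'
  simp only [transpose_transpose] at k1 k2 k3
  have hu : IsUnit A.det := isUnit_iff_ne_zero.2 hA
  have hu' : IsUnit Aᵀ.det := by simpa using hu
  have e1 : A * A⁻¹ = 1 := Matrix.mul_nonsing_inv _ hu
  have e2 : A⁻¹ * A = 1 := Matrix.nonsing_inv_mul _ hu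
  have e3 : (A⁻¹)ᵀ * Aᵀ = 1 := by rw [← transpose_mul, e1, transpose_one]
  have e4 : Aᵀ * (A⁻¹)ᵀ = 1 := by rw [← transpose_mul, e2, transpose_one]
  refine ⟨C * A⁻¹, A⁻¹ * B, ?_, ?_, ?_⟩
  · rw [transpose_mul]
    calc (A⁻¹)ᵀ * Cᵀ = (A⁻¹)ᵀ * (Cᵀ * A) * A⁻¹ := by
          rw [Matrix.mul_assoc, Matrix.mul_assoc, e1, Matrix.mul_one]
      _ = C * A⁻¹ := by rw [← h1, ← Matrix.mul_assoc, e3, Matrix.one_mul]
  · rw [transpose_mul]
    calc Bᵀ * (A⁻¹)ᵀ = A⁻¹ * (A * Bᵀ) * (A⁻¹)ᵀ := by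
          rw [← Matrix.mul_assoc, e2, Matrix.one_mul]
      _ = A⁻¹ * B := by rw [k1, Matrix.mul_assoc, Matrix.mul_assoc, e4, Matrix.mul_one]
  · apply Subtype.ext
    simp only [Submonoid.coe_mul, coe_lo, coe_lev, coe_up, fromBlocks_multiply, hg]
    simp only [Matrix.one_mul, Matrix.zero_mul, Matrix.mul_zero, add_zero, zero_add, Matrix.mul_one]
    have f1 : C * A⁻¹ * A = C := by rw [Matrix.mul_assoc, e2, Matrix.mul_one]
    have f2 : A * (A⁻¹ * B) = B := by rw [← Matrix.mul_assoc, e1, Matrix.one_mul]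
    rw [f1, f2]
    congr 1
    have : D = (A⁻¹)ᵀ * (Aᵀ * D) := by rw [← Matrix.mul_assoc, e3, Matrix.one_mul]
    rw [this, eq_add_of_sub_eq h3, Matrix.mul_add, Matrix.mul_one, add_comm]
    congr 1
    calc (A⁻¹)ᵀ * (Cᵀ * B) = (A⁻¹)ᵀ * (Cᵀ * A) * (A⁻¹ * B) := by
          rw [Matrix.mul_assoc, Matrix.mul_assoc, ← Matrix.mul_assoc A, e1, Matrix.one_mul]
      _ = C * (A⁻¹ * B) := by rw [← h1, ← Matrix.mul_assoc (A⁻¹)ᵀ, e3, Matrix.one_mul]

theorem isConj_lev {a b P : Matrix l l F} (ha : a.det ≠ 0) (hb : b.det ≠ 0) (hP : P.det ≠ 0)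
    (h : P * a = b * P) : IsConj (lev a ha) (lev b hb) := by
  rw [isConj_iff]
  refine ⟨lev P hP, ?_⟩
  rw [mul_inv_eq_iff_eq_mul, lev_mul, lev_mul]
  exact lev_congr _ _ h

theorem isConj_lo_lev [Finite F] {a : Matrix l l F} (ha : a.det ≠ 0)
    (hinj : ∀ R : Matrix l l F, aᵀ * R * a = R → R = 0) (S : Matrix l l F) (hS : Sᵀ = S) :
    IsConj (lev a ha) (lo S hS * lev a ha) := by
  have hi : Function.Injective (fun R : Matrix l l F => aᵀ * R * a - R) := by
    intro R R' h
    simp only at h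
    have := hinj (R - R') (by
      rw [Matrix.mul_sub, Matrix.sub_mul]
      rw [sub_eq_sub_iff_sub_eq_sub] at h
      exact h)
    exact sub_eq_zero.1 this
  obtain ⟨R, hR⟩ := Finite.injective_iff_surjective.1 hi (aᵀ * S * a)
  simp only at hR
  have hRs : Rᵀ = R := by
    apply hi
    simp only
    rw [hR]
    have := congrArg transpose hR
    simp only [transpose_sub, transpose_mul, transpose_transpose, hS] at this
    rw [Matrix.mul_assoc, this, Matrix.mul_assoc]
  have hu : IsUnit a.det := isUnit_iff_ne_zero.2 ha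
  have e1 : a * a⁻¹ = 1 := Matrix.mul_nonsing_inv _ hu
  have e3 : (a⁻¹)ᵀ * aᵀ = 1 := by rw [← transpose_mul, e1, transpose_one]
  rw [isConj_iff]
  refine ⟨lo R hRs, ?_⟩
  rw [mul_inv_eq_iff_eq_mul]
  apply Subtype.ext
  simp only [Submonoid.coe_mul, coe_lo, coe_lev, fromBlocks_multiply]
  simp only [Matrix.one_mul, Matrix.zero_mul, Matrix.mul_zero, add_zero, zero_add, Matrix.mul_one]
  congr 1
  have : R * a = (a⁻¹)ᵀ * (aᵀ * R * a) := by
    rw [Matrix.mul_assoc, ← Matrix.mul_assoc, e3, Matrix.one_mul]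
  rw [this, eq_add_of_sub_eq hR, Matrix.mul_add, Matrix.mul_assoc, ← Matrix.mul_assoc, e3,
    Matrix.one_mul]

theorem conj_up {g : Matrix.symplecticGroup l F} {A B C D : Matrix l l F}
    (hg : g.1 = fromBlocks A B C D) (S : Matrix l l F) (hS : Sᵀ = S) :
    (up S hS * g * up (-S) (by simp [hS])).1 =
      fromBlocks (A + S * C) (-((A + S * C) * S) + (B + S * D)) C (-(C * S) + D) := by
  simp only [Submonoid.coe_mul, coe_up, fromBlocks_multiply, hg]
  simp

theorem isConj_up (g : Matrix.symplecticGroup l F) (S : Matrix l l F) (hS : Sᵀ = S) :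
    IsConj g (up S hS * g * up (-S) (by simp [hS])) := by
  rw [isConj_iff]
  refine ⟨up S hS, ?_⟩
  congr 1
  rw [inv_eq_iff_mul_eq_one]
  apply Subtype.ext
  simp [coe_up, fromBlocks_multiply]

theorem conj_lev {g : Matrix.symplecticGroup l F} {A B C D : Matrix l l F}
    (hg : g.1 = fromBlocks A B C D) (P : Matrix l l F) (hP : P.det ≠ 0) :
    ∃ (g' : Matrix.symplecticGroup l F) (A' B' D' : Matrix l l F), IsConj g g' ∧
      g'.1 = fromBlocks A' B' (Pᵀ * C * P) D' := by
  have hu : IsUnit P.det := isUnit_iff_ne_zero.2 hP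
  refine ⟨lev P⁻¹ (by simpa using hP) * g * lev P hP, P⁻¹ * A * P, P⁻¹ * B * (P⁻¹)ᵀ,
    Pᵀ * D * (P⁻¹)ᵀ, ?_, ?_⟩
  · rw [isConj_iff]
    refine ⟨lev P⁻¹ (by simpa using hP), ?_⟩
    congr 1
    rw [inv_eq_iff_mul_eq_one, lev_mul, ← lev_one]
    exact lev_congr _ _ (Matrix.nonsing_inv_mul _ hu)
  · simp only [Submonoid.coe_mul, coe_lev, fromBlocks_multiply, hg,
      Matrix.nonsing_inv_nonsing_inv _ hu]
    simp

theorem conj_J {g : Matrix.symplecticGroup l F} {A B C D : Matrix l l F}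
    (hg : g.1 = fromBlocks A B C D) :
    ∃ g' : Matrix.symplecticGroup l F, IsConj g g' ∧ g'.1 = fromBlocks D (-C) (-B) A := by
  refine ⟨SymplecticGroup.symJ l F * g * (SymplecticGroup.symJ l F)⁻¹, isConj_iff.2 ⟨_, rfl⟩, ?_⟩
  rw [Submonoid.coe_mul, Submonoid.coe_mul, SymplecticGroup.coe_inv, SymplecticGroup.coe_J, hg]
  simp [Matrix.J, fromBlocks_multiply, fromBlocks_transpose, fromBlocks_neg]

end Blocks

/-- The matrices with trace `t` and determinant `d`, where `X² - tX + d` is irreducible,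
`d ≠ 1` and `t ≠ 0`. -/
structure Par (t d : F) : Prop where
  irr : ∀ c : F, c ^ 2 - t * c + d ≠ 0
  hd : d ≠ 1
  ht : t ≠ 0

theorem Par.d_ne {t d : F} (h : Par t d) : d ≠ 0 := by simpa using h.irr 0

theorem Par.noEig {t d : F} (h : Par t d) {a : Matrix (Fin 2) (Fin 2) F} (ht : a.trace = t)
    (hd : a.det = d) : NoEig a := by
  intro c; rw [ht, hd]; exact h.irr c

theorem exists_par [Fintype F] (h3 : 3 ≤ Fintype.card F) : ∃ t d : F, Par t d := by
  classical
  have hns : ¬ Function.Surjective (fun x : F => x - x ^ 2) := by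
    intro hs
    have := Finite.injective_iff_surjective.2 hs (a₁ := 0) (a₂ := 1) (by simp)
    exact zero_ne_one this
  simp only [Function.Surjective, not_forall, not_exists] at hns
  obtain ⟨d, hd⟩ := hns
  have hirr : ∀ c : F, c ^ 2 - 1 * c + d ≠ 0 := fun c hc => hd c (by linear_combination -hc)
  by_cases h1 : d = 1
  · subst h1
    have h3' : (3 : F) ≠ 0 := fun h => hirr (-1) (by linear_combination h)
    obtain ⟨c, hc0, hc1⟩ : ∃ c : F, c ≠ 0 ∧ c ^ 2 ≠ 1 := by
      by_cases h2 : (2 : F) = 0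
      · obtain ⟨c, hc⟩ : ∃ c : F, c ∉ ({0, 1} : Finset F) := by
          by_contra hh
          push Not at hh
          have : Fintype.card F ≤ ({0, 1} : Finset F).card :=
            Finset.card_le_card (s := Finset.univ) (fun x _ => hh x)
          have := Finset.card_le_two (a := (0 : F)) (b := 1)
          omega
        simp only [Finset.mem_insert, Finset.mem_singleton, not_or] at hc
        refine ⟨c, hc.1, fun h => hc.2 ?_⟩
        have : (c - 1) ^ 2 = 0 := by linear_combination h + (1 - c) * h2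
        exact sub_eq_zero.1 (pow_eq_zero_iff two_ne_zero |>.1 this)
      · exact ⟨2, h2, fun h => h3' (by linear_combination h)⟩
    refine ⟨c, c ^ 2, fun x hx => hirr (x / c) ?_, hc1, hc0⟩
    field_simp
    linear_combination hx
  · exact ⟨1, d, hirr, h1, one_ne_zero⟩

theorem Par.inj {t d : F} (h : Par t d) {a : Matrix (Fin 2) (Fin 2) F} (ht : a.trace = t)
    (hd : a.det = d) (R : Matrix (Fin 2) (Fin 2) F) (hR : aᵀ * R * a = R) : R = 0 := by
  -- Cayley-Hamilton on the left: `R (1 - t a + d a²) = 0`.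
  have hc : aᵀ * aᵀ = t • aᵀ - d • (1 : Matrix (Fin 2) (Fin 2) F) := by
    have := sq_eq aᵀ
    rwa [trace_transpose, det_transpose, ht, hd] at this
  have hc' : a * a = t • a - d • (1 : Matrix (Fin 2) (Fin 2) F) := by
    have := sq_eq a
    rwa [ht, hd] at this
  have h2 : aᵀ * aᵀ * R * (a * a) = R := by
    calc aᵀ * aᵀ * R * (a * a) = aᵀ * (aᵀ * R * a) * a := by simp only [Matrix.mul_assoc]
      _ = R := by rw [hR, hR]
  have h3 : R = t • (R * a) - d • (R * (a * a)) := by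
    conv_lhs => rw [← h2, hc, Matrix.sub_mul, Matrix.sub_mul, Matrix.smul_mul, Matrix.smul_mul,
      Matrix.smul_mul, Matrix.smul_mul, Matrix.one_mul, ← Matrix.mul_assoc, hR]
  have h4 : R * ((1 - d ^ 2) • (1 : Matrix (Fin 2) (Fin 2) F) + (t * (d - 1)) • a) = 0 := by
    rw [hc'] at h3
    simp only [Matrix.mul_sub, Matrix.mul_add, Matrix.mul_smul, Matrix.mul_one] at h3 ⊢
    linear_combination (norm := module) h3
  have h5 : ((1 - d ^ 2) • (1 : Matrix (Fin 2) (Fin 2) F) + (t * (d - 1)) • a).det ≠ 0 := by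
    rw [det_smul_add, ht, hd]
    have e1 := h.irr 1
    have e2 := h.irr (-1)
    have e3 := sub_ne_zero.2 h.hd
    have : (1 - d ^ 2) ^ 2 + t * (1 - d ^ 2) * (t * (d - 1)) + d * (t * (d - 1)) ^ 2 =
      (d - 1) ^ 2 * ((1 ^ 2 - t * 1 + d) * ((-1) ^ 2 - t * (-1) + d)) := by ring
    rw [this]
    exact mul_ne_zero (pow_ne_zero _ e3) (mul_ne_zero e1 e2)
  have := Matrix.mul_nonsing_inv_cancel_right _ R (isUnit_iff_ne_zero.2 h5)
  rw [h4, Matrix.zero_mul] at this
  exact this.symm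

/-- The equation for the second factor. -/
theorem Par.solve [Finite F] {t d : F} (h : Par t d) {s : F} (hs : s ≠ 2) :
    ∃ w z : F, w ^ 2 - s * w * z + z ^ 2 - t * w + t * z + d = 0 := by
  by_cases h2 : (2 : F) = 0
  · have hs0 : s ≠ 0 := by rwa [h2] at hs
    obtain ⟨w, hw⟩ := exists_sq_of_two_eq_zero h2 (d / s)
    refine ⟨w, w, ?_⟩
    have : s * w ^ 2 = d := by rw [hw]; field_simp
    linear_combination (w ^ 2) * h2 - this
  · by_cases hs2 : s = -2
    · subst hs2
      have ht := h.ht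
      refine ⟨d / (2 * t), -(d / (2 * t)), ?_⟩
      field_simp
      ring
    · have hs2' : 2 + s ≠ 0 := fun hh => hs2 (by linear_combination hh)
      have hne : (-s) ^ 2 ≠ 4 * 1 := by
        intro hh
        have : (s - 2) * (2 + s) = 0 := by linear_combination hh
        rcases mul_eq_zero.1 this with h' | h'
        · exact hs (sub_eq_zero.1 h')
        · exact hs2' h'
      obtain ⟨x, y, hxy⟩ := norm_surj (Or.inl hne) (t ^ 2 / (2 + s) - d)
      refine ⟨x + t / (2 + s), y - t / (2 + s), ?_⟩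
      have e : t = (2 + s) * (t / (2 + s)) := by field_simp
      have e' : t ^ 2 / (2 + s) = t * (t / (2 + s)) := by ring
      rw [e'] at hxy
      set u := t / (2 + s)
      linear_combination hxy + (y - x - u) * e

theorem Par.factor [Finite F] {t d : F} (h : Par t d) {b : Matrix (Fin 2) (Fin 2) F}
    (hb : ¬ IsScal b) (hdet : b.det = 1) (htr : b.trace ≠ 2) :
    ∃ a : Matrix (Fin 2) (Fin 2) F, a.trace = t ∧ a.det = d ∧ (b * a).trace = t := by
  obtain ⟨P, hP, hbP⟩ := exists_companion hb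
  obtain ⟨w, z, hwz⟩ := h.solve htr
  have hu : IsUnit P.det := isUnit_iff_ne_zero.2 hP
  refine ⟨P * !![t - w, t + z - b.trace * w; z, w] * P⁻¹, ?_, ?_, ?_⟩
  · rw [Matrix.trace_mul_comm, ← Matrix.mul_assoc, Matrix.nonsing_inv_mul _ hu, Matrix.one_mul]
    simp
  · rw [det_mul, det_mul, det_nonsing_inv, Ring.inverse_eq_inv']
    field_simp
    rw [det_fin_two_of]
    linear_combination -hwz
  · rw [← Matrix.mul_assoc, ← Matrix.mul_assoc, hbP, Matrix.trace_mul_comm, Matrix.mul_assoc P,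
      ← Matrix.mul_assoc, Matrix.nonsing_inv_mul _ hu, Matrix.one_mul, hdet]
    simp [trace_fin_two]

/-- The standard matrix of the class. -/
def std (t d : F) : Matrix (Fin 2) (Fin 2) F := !![0, -d; 1, t]

theorem trace_std (t d : F) : (std t d).trace = t := by simp [std]

theorem det_std (t d : F) : (std t d).det = d := by simp [std]

/-- Good upper left blocks. -/
def Good (b : Matrix (Fin 2) (Fin 2) F) : Prop :=
  b.det = 1 ∧ ((2 : F) ≠ 0 ∨ b = 1 ∨ b.trace ≠ 0)

theorem Par.good [Finite F] {t d : F} (h : Par t d) {b : Matrix (Fin 2) (Fin 2) F}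
    (hb : Good b) : ∃ (e : F) (a : Matrix (Fin 2) (Fin 2) F), (e = 1 ∨ e = -1) ∧
      a.trace = t ∧ a.det = d ∧ ((e • b) * a).trace = t := by
  by_cases hs : IsScal b
  · obtain ⟨c, rfl⟩ := isScal_iff.1 hs
    have hc : c * c = 1 := by
      have := hb.1
      simpa [sq] using this
    refine ⟨c, std t d, mul_self_eq_one_iff.1 hc, trace_std _ _, det_std _ _, ?_⟩
    rw [smul_smul, hc, one_smul, Matrix.one_mul, trace_std]
  · by_cases h2 : b.trace = 2
    · have h2' : (2 : F) ≠ 0 := by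
        rcases hb.2 with h' | h' | h'
        · exact h'
        · exact absurd (h' ▸ isScal_one) hs
        · rwa [h2] at h'
      obtain ⟨a, h1, h3, h4⟩ := h.factor (b := -b) (by rwa [isScal_neg])
        (by rw [det_neg]; simp [hb.1]) (by
          rw [trace_neg, h2]
          intro hh
          have : (2 : F) * 2 = 0 := by linear_combination -hh
          exact mul_ne_zero h2' h2' this)
      exact ⟨-1, a, Or.inr rfl, h1, h3, by simpa using h4⟩
    · obtain ⟨a, h1, h3, h4⟩ := h.factor hs hb.1 h2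
      exact ⟨1, a, Or.inl rfl, h1, h3, by simpa using h4⟩

section Main

variable [Finite F] {t d : F}

/-- The element of the class. -/
noncomputable def xx (h : Par t d) : Matrix.symplecticGroup (Fin 2) F :=
  lev (std t d) (by rw [det_std]; exact h.d_ne)

omit [Finite F] in
theorem Par.isConj_lev (h : Par t d) {a : Matrix (Fin 2) (Fin 2) F} (ht : a.trace = t)
    (hd : a.det = d) : IsConj (xx h) (lev a (by rw [hd]; exact h.d_ne)) := by
  obtain ⟨P, hP, hPa⟩ := exists_similar (h.noEig (trace_std t d) (det_std t d)).not_isScal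
    (h.noEig ht hd).not_isScal (by rw [trace_std, ht]) (by rw [det_std, hd])
  exact Sp4.isConj_lev _ _ hP hPa

theorem Par.isConj_lo (h : Par t d) {a : Matrix (Fin 2) (Fin 2) F} (ht : a.trace = t)
    (hd : a.det = d) (S : Matrix (Fin 2) (Fin 2) F) (hS : Sᵀ = S) :
    IsConj (xx h) (lo S hS * lev a (by rw [hd]; exact h.d_ne)) :=
  (h.isConj_lev ht hd).trans (isConj_lo_lev _ (h.inj ht hd) S hS)

theorem Par.isConj_up (h : Par t d) {a : Matrix (Fin 2) (Fin 2) F} (ht : a.trace = t)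
    (hd : a.det = d) (S : Matrix (Fin 2) (Fin 2) F) (hS : Sᵀ = S) :
    IsConj (xx h) (lev a⁻¹ (by simpa [hd] using h.d_ne) * up S hS) := by
  have ha : a.det ≠ 0 := by rw [hd]; exact h.d_ne
  have h1 := h.isConj_lo (a := aᵀ) (by simpa using ht) (by simpa using hd) (-S) (by simp [hS])
  refine h1.trans ?_
  have h2 : IsConj (lo (-S) (by simp [hS]) * lev aᵀ (by simpa using ha))
      (lev aᵀ (by simpa using ha) * lo (-S) (by simp [hS])) := by
    rw [isConj_iff]
    exact ⟨lev aᵀ (by simpa using ha), by group⟩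
  refine h2.trans (IsConj.symm ?_)
  rw [isConj_iff]
  refine ⟨SymplecticGroup.symJ (Fin 2) F, ?_⟩
  rw [mul_inv_eq_iff_eq_mul, ← mul_assoc, J_mul_lev a ha, mul_assoc, J_mul_up, mul_assoc]

/-- `g` is, up to the centre, a product of two conjugates of `x`. -/
def Two (x g : Matrix.symplecticGroup (Fin 2) F) : Prop :=
  ∃ z y₁ y₂, z ∈ Subgroup.center (Matrix.symplecticGroup (Fin 2) F) ∧ IsConj x y₁ ∧ IsConj x y₂ ∧
    g = z * (y₁ * y₂)

omit [Finite F] in
theorem Two.of_isConj {x g g' : Matrix.symplecticGroup (Fin 2) F} (hg : IsConj g g')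
    (h : Two x g') : Two x g := by
  obtain ⟨z, y₁, y₂, hz, h1, h2, e⟩ := h
  obtain ⟨c, hc⟩ := isConj_iff.1 hg.symm
  refine ⟨z, c * y₁ * c⁻¹, c * y₂ * c⁻¹, hz, h1.trans (isConj_iff.2 ⟨c, rfl⟩),
    h2.trans (isConj_iff.2 ⟨c, rfl⟩), ?_⟩
  rw [← hc, e, ← mul_assoc c, Subgroup.mem_center_iff.1 hz c]
  group

theorem Par.two_of_good (h : Par t d) {g : Matrix.symplecticGroup (Fin 2) F}
    {A B C D : Matrix (Fin 2) (Fin 2) F} (hg : g.1 = fromBlocks A B C D) (hA : Good A) :
    Two (xx h) g := by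
  have hA0 : A.det ≠ 0 := by rw [hA.1]; exact one_ne_zero
  obtain ⟨S, T, hS, hT, rfl⟩ := gauss hg hA0
  obtain ⟨e, a, he, ht, hd, htr⟩ := h.good hA
  have ha : a.det ≠ 0 := by rw [hd]; exact h.d_ne
  have hu : IsUnit a.det := isUnit_iff_ne_zero.2 ha
  have he2 : e * e = 1 := by rcases he with rfl | rfl <;> simp
  have hd1 : ((e • A) * a).det = d := by
    rw [det_mul, det_smul, hA.1, hd]
    simp [sq, he2]
  have hed : (e • (1 : Matrix (Fin 2) (Fin 2) F)).det ≠ 0 := by
    simp [sq, he2]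
  have hz : lev (e • (1 : Matrix (Fin 2) (Fin 2) F)) hed ∈
      Subgroup.center (Matrix.symplecticGroup (Fin 2) F) := by
    rcases he with rfl | rfl
    · have : lev ((1 : F) • (1 : Matrix (Fin 2) (Fin 2) F)) hed = 1 := by
        rw [← lev_one]; exact lev_congr _ _ (one_smul _ _)
      rw [this]; exact one_mem _
    · have : lev ((-1 : F) • (1 : Matrix (Fin 2) (Fin 2) F)) hed = negOne 2 F := by
        apply Subtype.ext
        rw [coe_lev]
        have : ((-1 : F) • (1 : Matrix (Fin 2) (Fin 2) F))⁻¹ = -1 := by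
          apply Matrix.inv_eq_left_inv; simp
        rw [this]
        change _ = -1
        rw [← fromBlocks_one, fromBlocks_neg]
        simp
      rw [this]; exact negOne_mem_center
  refine ⟨_, _, _, hz, h.isConj_lo htr hd1 S hS, h.isConj_up ht hd T hT, ?_⟩
  rw [← mul_assoc, ← mul_assoc, ← mul_assoc, ← Subgroup.mem_center_iff.1 hz]
  congr 1
  rw [mul_assoc (lo S hS), mul_assoc (lo S hS), lev_mul, lev_mul]
  congr 1
  apply lev_congr
  rw [Matrix.mul_assoc, Matrix.mul_nonsing_inv_cancel_right _ _ hu]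
  simp [smul_smul, he2]

theorem Par.two_of_add (h : Par t d) {g : Matrix.symplecticGroup (Fin 2) F}
    {A B C D : Matrix (Fin 2) (Fin 2) F} (hg : g.1 = fromBlocks A B C D)
    (S : Matrix (Fin 2) (Fin 2) F) (hS : Sᵀ = S) (hA : Good (A + S * C)) : Two (xx h) g :=
  Two.of_isConj (Sp4.isConj_up g S hS) (h.two_of_good (conj_up hg S hS) hA)

theorem Par.two_of_det (h : Par t d) {g : Matrix.symplecticGroup (Fin 2) F}
    {A B C D : Matrix (Fin 2) (Fin 2) F} (hg : g.1 = fromBlocks A B C D) (hC : C.det ≠ 0) :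
    Two (xx h) g := by
  have hm := g.2
  rw [hg] at hm
  obtain ⟨h1, -, -⟩ := SymplecticGroup.fromBlocks_mem_iff.1 hm
  have hu : IsUnit C.det := isUnit_iff_ne_zero.2 hC
  have e1 : C * C⁻¹ = 1 := Matrix.mul_nonsing_inv _ hu
  have e2 : C⁻¹ * C = 1 := Matrix.nonsing_inv_mul _ hu
  have e3 : (C⁻¹)ᵀ * Cᵀ = 1 := by rw [← transpose_mul, e1, transpose_one]
  have hs : (A * C⁻¹)ᵀ = A * C⁻¹ := by
    rw [transpose_mul]
    calc (C⁻¹)ᵀ * Aᵀ = (C⁻¹)ᵀ * (Aᵀ * C) * C⁻¹ := by
          rw [Matrix.mul_assoc, Matrix.mul_assoc, e1, Matrix.mul_one]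
      _ = A * C⁻¹ := by rw [h1, ← Matrix.mul_assoc (C⁻¹)ᵀ, e3, Matrix.one_mul]
  obtain ⟨Y, hY, hYC⟩ : ∃ Y : Matrix (Fin 2) (Fin 2) F, Yᵀ = Y ∧ Good (Y * C) := by
    by_cases h2 : (2 : F) = 0
    · by_cases hsy : C 0 1 = C 1 0
      · have hCs : Cᵀ = C := by apply ext2 <;> simp [hsy]
        refine ⟨C⁻¹, by rw [Matrix.transpose_nonsing_inv, hCs], ?_⟩
        rw [e2]
        exact ⟨det_one, Or.inr (Or.inl rfl)⟩
      · obtain ⟨r, hr⟩ := exists_sq_of_two_eq_zero h2 (C.det)⁻¹
        have hr' : r ^ 2 * C.det = 1 := by rw [hr, inv_mul_cancel₀ hC]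
        have hr0 : r ≠ 0 := by rintro rfl; simp at hr'
        refine ⟨!![0, r; r, 0], by apply ext2 <;> simp, ?_, Or.inr (Or.inr ?_)⟩
        · rw [det_mul, det_fin_two_of]
          linear_combination -hr' - h2
        · simp only [trace_fin_two, mul_apply2]
          simp only [of_apply, cons_val', cons_val_zero, cons_val_one, cons_val_fin_one]
          intro hh
          have : r * (C 0 1 - C 1 0) = 0 := by linear_combination hh - r * C 1 0 * h2
          exact mul_ne_zero hr0 (sub_ne_zero.2 hsy) this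
    · refine ⟨!![1, 0; 0, (C.det)⁻¹], by apply ext2 <;> simp, ?_, Or.inl h2⟩
      rw [det_mul, det_fin_two_of]
      simp [hC]
  refine h.two_of_add hg (Y - A * C⁻¹) (by rw [transpose_sub, hY, hs]) ?_
  rwa [Matrix.sub_mul, Matrix.mul_assoc, e2, Matrix.mul_one, add_sub_cancel]

theorem Par.two_of_col (h : Par t d) {g : Matrix.symplecticGroup (Fin 2) F}
    {A B C D : Matrix (Fin 2) (Fin 2) F} (hg : g.1 = fromBlocks A B C D) (hC : C ≠ 0)
    (h0 : C 0 0 = 0) (h1 : C 1 0 = 0) : Two (xx h) g := by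
  have hm := g.2
  rw [hg] at hm
  obtain ⟨-, -, h3⟩ := SymplecticGroup.fromBlocks_mem_iff.1 hm
  have h4 := congrFun (congrFun h3 0) 0
  simp only [Matrix.sub_apply, mul_apply2, transpose_apply, h0, h1, one_apply_eq] at h4
  -- the second column can be prescribed
  have key : ∀ x z : F, ∃ S : Matrix (Fin 2) (Fin 2) F, Sᵀ = S ∧
      A + S * C = !![A 0 0, x; A 1 0, z] := by
    intro x z
    by_cases hc : C 0 1 = 0
    · have hc' : C 1 1 ≠ 0 := fun hh => hC (by apply ext2 <;> simp [*])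
      refine ⟨!![0, (x - A 0 1) / C 1 1; (x - A 0 1) / C 1 1, (z - A 1 1) / C 1 1],
        by apply ext2 <;> simp, ?_⟩
      apply ext2 <;> simp [vecMul, dotProduct, h0, h1, hc, hc']
    · refine ⟨!![(x - A 0 1 - (z - A 1 1) / C 0 1 * C 1 1) / C 0 1, (z - A 1 1) / C 0 1;
        (z - A 1 1) / C 0 1, 0], by apply ext2 <;> simp, ?_⟩
      apply ext2 <;> simp [vecMul, dotProduct, h0, h1, hc]
  by_cases ha : A 1 0 = 0
  · have ha0 : A 0 0 ≠ 0 := by
      intro hh
      rw [hh, ha] at h4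
      simp at h4
    obtain ⟨S, hS, e⟩ := key 0 (A 0 0)⁻¹
    refine h.two_of_add hg S hS ?_
    rw [e]
    refine ⟨by rw [det_fin_two_of]; simp [ha0], ?_⟩
    by_cases h2 : (2 : F) = 0
    · right
      by_cases ha1 : A 0 0 = 1
      · left
        apply ext2 <;> simp [ha, ha1]
      · right
        rw [trace_fin_two_of]
        intro hh
        apply ha1
        have h5 : A 0 0 * (A 0 0)⁻¹ = 1 := mul_inv_cancel₀ ha0
        have : (A 0 0 - 1) ^ 2 = 0 := by
          linear_combination A 0 0 * hh - h5 - A 0 0 * h2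
        exact sub_eq_zero.1 (pow_eq_zero_iff two_ne_zero |>.1 this)
    · exact Or.inl h2
  · obtain ⟨S, hS, e⟩ := key ((A 0 0 * (1 - A 0 0) - 1) / A 1 0) (1 - A 0 0)
    refine h.two_of_add hg S hS ?_
    rw [e]
    refine ⟨by rw [det_fin_two_of]; field_simp; ring, Or.inr (Or.inr ?_)⟩
    rw [trace_fin_two_of]
    simp

theorem Par.two_of_ne (h : Par t d) {g : Matrix.symplecticGroup (Fin 2) F}
    {A B C D : Matrix (Fin 2) (Fin 2) F} (hg : g.1 = fromBlocks A B C D) (hC : C ≠ 0) :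
    Two (xx h) g := by
  by_cases hdet : C.det = 0
  · obtain ⟨P, hP, h0, h1⟩ : ∃ P : Matrix (Fin 2) (Fin 2) F, P.det ≠ 0 ∧ (C * P) 0 0 = 0 ∧
        (C * P) 1 0 = 0 := by
      rw [det_fin_two] at hdet
      by_cases h00 : C 0 0 = 0
      · by_cases h10 : C 1 0 = 0
        · exact ⟨1, by simp, by simpa using h00, by simpa using h10⟩
        · refine ⟨!![-C 1 1, 1; C 1 0, 0], by simpa [det_fin_two] using h10, ?_, ?_⟩
          · simp [mul_apply2]; linear_combination -hdet
          · simp [mul_apply2]; ring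
      · refine ⟨!![-C 0 1, 1; C 0 0, 0], by simpa [det_fin_two] using h00, ?_, ?_⟩
        · simp [mul_apply2]; ring
        · simp [mul_apply2]; linear_combination hdet
    obtain ⟨g', A', B', D', hc, hg'⟩ := conj_lev hg P hP
    refine Two.of_isConj hc (h.two_of_col hg' ?_ ?_ ?_)
    · intro hh
      apply hC
      have hu : IsUnit P.det := isUnit_iff_ne_zero.2 hP
      have hu' : IsUnit Pᵀ.det := by simpa using hu
      have : C = (Pᵀ)⁻¹ * (Pᵀ * C * P) * P⁻¹ := by
        rw [Matrix.mul_assoc, Matrix.mul_nonsing_inv_cancel_right _ _ hu,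
          Matrix.nonsing_inv_mul_cancel_left _ _ hu']
      rw [this, hh]; simp
    · rw [Matrix.mul_assoc, mul_apply2, h0, h1]; simp
    · rw [Matrix.mul_assoc, mul_apply2, h0, h1]; simp
  · exact h.two_of_det hg hdet

theorem Par.two (h : Par t d) {g : Matrix.symplecticGroup (Fin 2) F}
    (hg : g ∉ Subgroup.center (Matrix.symplecticGroup (Fin 2) F)) : Two (xx h) g := by
  by_contra hn
  have hC : ∀ (g' : Matrix.symplecticGroup (Fin 2) F) (A B C D : Matrix (Fin 2) (Fin 2) F),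
      IsConj g g' → g'.1 = fromBlocks A B C D → C = 0 := by
    intro g' A B C D hc hg'
    by_contra hC
    exact hn (Two.of_isConj hc (h.two_of_ne hg' hC))
  have hB : ∀ (g' : Matrix.symplecticGroup (Fin 2) F) (A B C D : Matrix (Fin 2) (Fin 2) F),
      IsConj g g' → g'.1 = fromBlocks A B C D → B = 0 := by
    intro g' A B C D hc hg'
    obtain ⟨g'', hc', hg''⟩ := conj_J hg'
    exact neg_eq_zero.1 (hC _ _ _ _ _ (hc.trans hc') hg'')
  have e := (fromBlocks_toBlocks g.1).symm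
  set A := g.1.toBlocks₁₁
  set D := g.1.toBlocks₂₂
  have hc0 := hC g _ _ _ _ (IsConj.refl g) e
  have hb0 := hB g _ _ _ _ (IsConj.refl g) e
  rw [hc0, hb0] at e
  have hS : ∀ S : Matrix (Fin 2) (Fin 2) F, Sᵀ = S → A * S = S * D := by
    intro S hS
    have := hB _ _ _ _ _ (Sp4.isConj_up g S hS) (conj_up e S hS)
    simp only [Matrix.mul_zero, add_zero, zero_add] at this
    exact neg_add_eq_zero.1 this
  have hAD : A = D := by simpa using hS 1 (by simp)
  rw [← hAD] at hS e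
  have k1 := ext2_iff.1 (hS !![1, 0; 0, 0] (by apply ext2 <;> simp))
  have k2 := ext2_iff.1 (hS !![0, 1; 1, 0] (by apply ext2 <;> simp))
  simp [mul_apply2] at k1 k2
  have hs : IsScal A := ⟨by simp [k1], by simp [k1], by tauto⟩
  obtain ⟨c, hc⟩ := isScal_iff.1 hs
  apply hg
  rw [Subgroup.mem_center_iff]
  intro y
  apply Subtype.ext
  have : g.1 = c • (1 : Matrix (Fin 2 ⊕ Fin 2) (Fin 2 ⊕ Fin 2) F) := by
    rw [e, hc, ← fromBlocks_one, fromBlocks_smul]; simp
  simp [this]

omit [Finite F] in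
theorem Par.not_dvd (h : Par t d) (p : ℕ) [Fact p.Prime] [CharP F p] (n : ℕ)
    (hn : xx h ^ (p * n) = 1) : xx h ^ n = 1 := by
  have hx : ∀ m : ℕ, xx h ^ m = 1 ↔ std t d ^ m = 1 := by
    intro m
    rw [xx, lev_pow]
    constructor
    · intro hh
      have := congrArg Subtype.val hh
      rw [coe_lev, OneMemClass.coe_one, ← fromBlocks_one] at this
      exact (fromBlocks_inj.1 this).1
    · intro hh
      rw [← lev_one]; exact lev_congr _ _ hh
  rw [hx] at hn ⊢
  have hne := h.noEig (trace_std t d) (det_std t d)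
  have h1 : (std t d ^ n - 1) ^ p = 0 := by
    rw [sub_pow_char_of_commute _ (Commute.one_right _), ← pow_mul, mul_comm, hn]; simp
  have h2 : (std t d ^ n - 1).det = 0 := by
    have := congrArg Matrix.det h1
    rw [det_pow, det_zero] at this
    exact pow_eq_zero_iff (Fact.out : p.Prime).ne_zero |>.1 this
  obtain ⟨x, y, hxy⟩ := (comm_iff hne.not_isScal (B := std t d ^ n - 1)).1 (by
    rw [Matrix.mul_sub, Matrix.sub_mul, ← pow_succ, ← pow_succ']; simp)
  rw [hxy, det_smul_add] at h2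
  obtain ⟨rfl, rfl⟩ := hne.norm_eq_zero h2
  simpa [sub_eq_zero] using hxy

end Main

end Cfsg.Agent.Comm.Sp4
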